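import Groth.Agent.Lib.H70.BundleBC
import Groth.Agent.Lib.SymAlg.LineVA
import Groth.Agent.Lib.QCoh.Pushforward
import Mathlib.AlgebraicGeometry.QuasiAffine

/-!
# Invertible modules on a scheme quasi-compactly open in an affine scheme are very ample
-/

noncomputable section

set_option autoImplicit false
universe u

open CategoryTheory Limits AlgebraicGeometry Opposite TopologicalSpace
open scoped HomogeneousIdeal

namespace Groth.Agent.Lib.QAffVA.Main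

section BC

open Groth.Agent.Lib.H70 Groth.Agent.Lib.H70.BundleBC Groth.Agent.H81.RelProj
open Groth.Agent.Lib.RelProjBasics.Basic (chartStr)

variable {Y Y' : Scheme.{u}} (ψ : Y' ⟶ Y) {E : Y.Modules} [E.IsQuasicoherent] {𝒮 : RelProj.QCGrAlg Y}
  {j : E ⟶ 𝒮.toModule} (hj : RelProj.IsGrSymAlg E 𝒮 j) {P : Scheme.{u}} {p : P ⟶ Y}
  {chart : ∀ (U : Y.Opens) (hU : IsAffineOpen U), (((p ⁻¹ᵁ U : P.Opens) : Scheme.{u}) ≅ Proj (𝒮.deg U hU))}
  (hP : RelProj.IsRelProj 𝒮 p chart) {O1 : P.Modules}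
  {lam : ∀ (U : Y.Opens) (hU : IsAffineOpen U),
    O1 ⟶ (Scheme.Modules.pushforward (RelProj.emb p chart U hU)).obj (GrTwist.twist (𝒮.deg U hU) 1)}
  (hO : RelProj.IsRelTwist 𝒮 p chart 1 O1 lam)

include hj hP hO in
/-- `P(ψ^*E)` is the base change of `P(E)`, and its `O(1)` the inverse image of `O(1)`. -/
theorem exists_bc_pullback : ∃ (𝒯 : RelProj.QCGrAlg Y') (jT : (Scheme.Modules.pullback ψ).obj E ⟶ 𝒯.toModule)
    (_ : RelProj.IsGrSymAlg ((Scheme.Modules.pullback ψ).obj E) 𝒯 jT) (P' : Scheme.{u}) (p' : P' ⟶ Y')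
    (chart' : ∀ (U : Y'.Opens) (hU : IsAffineOpen U), (((p' ⁻¹ᵁ U : P'.Opens) : Scheme.{u}) ≅ Proj (𝒯.deg U hU)))
    (_ : RelProj.IsRelProj 𝒯 p' chart') (O1' : P'.Modules)
    (lam' : ∀ (U : Y'.Opens) (hU : IsAffineOpen U),
      O1' ⟶ (Scheme.Modules.pushforward (RelProj.emb p' chart' U hU)).obj (GrTwist.twist (𝒯.deg U hU) 1))
    (_ : RelProj.IsRelTwist 𝒯 p' chart' 1 O1' lam') (g : P' ⟶ P),
    IsPullback g p' p ψ ∧ Nonempty ((Scheme.Modules.pullback g).obj O1 ≅ O1') := by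
  let E' := (Scheme.Modules.pullback ψ).obj E
  let 𝒯 := SymAlg.Exists.grAlg E'
  have hT : RelProj.IsGrSymAlg E' 𝒯 (SymAlg.Exists.jmap E') := SymAlg.Exists.isGrSymAlg E'
  obtain ⟨u, hu₁, hu₂⟩ := SymBC.exists_u hj ψ (𝒯 := 𝒯) (jT := SymAlg.Exists.jmap E')
  let φ : ∀ (U : Y.Opens) (hU : IsAffineOpen U) (U' : Y'.Opens) (hU' : IsAffineOpen U') (_ : U' ≤ ψ ⁻¹ᵁ U),
      𝒮.deg U hU →+*ᵍ 𝒯.deg U' hU' := fun U hU U' hU' hle =>
    { toRingHom := (SymBC.comp ψ u U U' hle).hom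
      map_mem := fun {d x} hx => SymBC.comp_mem hj ψ hT hu₁ hu₂ U hU U' hU' hle d x hx }
  have hirr : ∀ (U : Y.Opens) (hU : IsAffineOpen U) (U' : Y'.Opens) (hU' : IsAffineOpen U') (hle : U' ≤ ψ ⁻¹ᵁ U),
      (𝒯.deg U' hU')₊ ≤ ((𝒮.deg U hU)₊).map (φ U hU U' hU' hle) := fun U hU U' hU' hle =>
    SymBC.irrelevant_le hj ψ hT hu₂ U hU U' hU' hle
  have hpo := SymBC.isPushout hj ψ hT hu₁ hu₂
  obtain ⟨g, hg⟩ := exists_glue (φ := φ) (fun _ _ _ _ _ => rfl) hirr hP (Exists.isRelProj 𝒯)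
  obtain ⟨O1', lam', hO'⟩ := RelTwist.exists_isRelTwist (Exists.isRelProj 𝒯) 1
  exact ⟨𝒯, _, hT, _, _, _, Exists.isRelProj 𝒯, O1', lam', hO', g,
    BaseChange.isPullback ψ (φ := φ) (fun _ _ _ _ _ => rfl) hpo hirr hP (Exists.isRelProj 𝒯) hg,
    Groth.Agent.S8335.result ψ 𝒮 𝒯 u hu₁ φ (fun _ _ _ _ _ => rfl) hpo hirr p chart hP _ _
      (Exists.isRelProj 𝒯) g hg 1 O1 lam hO O1' lam' hO'⟩


end BC

section Line

open Groth.Agent.Lib Groth.Agent.Lib.SymAlg Groth.Agent.Lib.SymAlg.LineVA Groth.Agent.H58VA TensorMod TensorMod.Dual TensorMod.Gen TensorMod.HomGlue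

/-- `P(L) = S` with `O(1) = L`, for any model of the projective bundle of an invertible `L`. -/
theorem exists_iso_O1 {S P : Scheme.{u}} {L : S.Modules} (hL : PicF.IsInvertible L) {𝒮 : RelProj.QCGrAlg S}
    {j : L ⟶ 𝒮.toModule} (hj : RelProj.IsGrSymAlg L 𝒮 j) {p : P ⟶ S}
    {chart : ∀ (U : S.Opens) (hU : IsAffineOpen U), ((p ⁻¹ᵁ U : P.Opens) : Scheme.{u}) ≅ Proj (𝒮.deg U hU)}
    (hP : RelProj.IsRelProj 𝒮 p chart) {O1 : P.Modules}
    {lam : ∀ (U : S.Opens) (hU : IsAffineOpen U),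
      O1 ⟶ (Scheme.Modules.pushforward (RelProj.emb p chart U hU)).obj (GrTwist.twist (𝒮.deg U hU) 1)}
    (hO : RelProj.IsRelTwist 𝒮 p chart 1 O1 lam) :
    ∃ _ : IsIso p, Nonempty (L ≅ (Scheme.Modules.pullback (inv p)).obj O1) := by
  have hLq : L.IsQuasicoherent := QCohInv.isQCoh_of_isInvertible hL
  have : IsIso p := ProjQ.isIso_proj hL hLq hj hP
  have hc : ∀ x : S, ∃ (U : S.Opens) (_ : IsAffineOpen U) (e : Γ(L, U)), x ∈ U ∧ IsGen L U e := fun x => by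
    obtain ⟨U, e, hxU, he⟩ := Gen.isInvertible_iff.1 hL x
    obtain ⟨V, hV, hxV, hVU⟩ := exists_isAffineOpen_mem_and_subset (X := S) (x := x) (U := U) hxU
    exact ⟨V, hV, rs L hVU e, hxV, he.res hVU⟩
  choose U hU e hxU he using hc
  obtain ⟨φ, -⟩ := exists_iso_of_gen (M := (Scheme.Modules.pushforward p).obj O1)
    (top_le_iff.1 fun x _ => Opens.mem_iSup.2 ⟨x, hxU x⟩) e he (fun x => sec hO hj (hU x) (e x))
    (fun x => isGen_sec hO hj hLq (hU x) (he x)) fun a b W ha hb c hc => by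
      have hA : ∀ z : W, ∃ D : S.Opens, IsAffineOpen D ∧ z.1 ∈ D ∧ D ≤ W := fun z => by
        obtain ⟨D, hD, hzD, hDW⟩ := exists_isAffineOpen_mem_and_subset (X := S) (x := z.1) (U := W) z.2
        exact ⟨D, hD, hzD, hDW⟩
      choose D hD hzD hDW using hA
      refine sections_ext_cover (fun z => p ⁻¹ᵁ D z) O1
        (fun y hy => Opens.mem_iSup.2 ⟨⟨p y, hy⟩, hzD ⟨p y, hy⟩⟩) fun z => ?_
      have h := congrArg (sec hO hj (hD z)) (congrArg (rs L (hDW z)) hc)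
      rw [rs_rs, rs_smul, rs_rs, sec_smul hO hj hP, ← rs_sec hO hj hP (hU a) (hD z),
        ← rs_sec hO hj hP (hU b) (hD z)] at h
      have hinf : p ⁻¹ᵁ W ⊓ p ⁻¹ᵁ D z ≤ p ⁻¹ᵁ D z := inf_le_right
      have h' := congrArg (rs O1 hinf) h
      rw [rs_smul, rs_rs, rs_rs] at h'
      change rs O1 inf_le_left (rs O1 (p.preimage_mono ha) _) =
        rs O1 inf_le_left (p.app W c • rs O1 (p.preimage_mono hb) _)
      rw [rs_smul, rs_rs, rs_rs, h']
      congr 1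
      simp only [← CommRingCat.comp_apply]
      rw [Scheme.Hom.naturality, Category.assoc, ← Functor.map_comp]
      rfl
  exact ⟨inferInstance, ⟨φ ≪≫ ((pullbackInvIso p).app O1).symm⟩⟩

end Line

theorem isRelVeryAmple_of_isOpenImmersion {X S : Scheme.{u}} (f : X ⟶ S) [IsOpenImmersion f]
    [QuasiCompact f] {L : X.Modules} (hL : PicF.IsInvertible L) : RelProj.IsRelVeryAmple f L := by
  have hLq : L.IsQuasicoherent := TensorMod.QCohInv.isQCoh_of_isInvertible hL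
  let E := (Scheme.Modules.pushforward f).obj L
  have hE : E.IsQuasicoherent := QCoh.Pushforward.isQCoh_pushforward (f := f) (M := L)
  let 𝒮 := SymAlg.Exists.grAlg E
  have hj := SymAlg.Exists.isGrSymAlg E
  have hP := H81.RelProj.Exists.isRelProj 𝒮
  obtain ⟨O1, lam, hO⟩ := H81.RelProj.RelTwist.exists_isRelTwist hP 1
  obtain ⟨𝒯, jT, hT, P', p', chart', hP', O1', lam', hO', g, hpb, ⟨eO⟩⟩ := exists_bc_pullback f hj hP hO
  let eE : (Scheme.Modules.pullback f).obj E ≅ L :=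
    asIso ((Scheme.Modules.pullbackPushforwardAdjunction f).counit.app L)
  have hE' : PicF.IsInvertible ((Scheme.Modules.pullback f).obj E) := fun y =>
    let ⟨U, hy, ⟨e⟩⟩ := hL y
    ⟨U, hy, ⟨(Scheme.Modules.restrictFunctor U.ι).mapIso eE ≪≫ e⟩⟩
  obtain ⟨hp, ⟨eL⟩⟩ := exists_iso_O1 hE' hT hP' hO'
  have : IsOpenImmersion g := MorphismProperty.of_isPullback (P := @IsOpenImmersion) hpb.flip inferInstance
  refine ⟨E, hE, 𝒮, _, hj, _, _, _, hP, O1, lam, hO, inv p' ≫ g, inferInstance, ?_, ⟨?_⟩⟩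
  · rw [Category.assoc, hpb.w, IsIso.inv_hom_id_assoc]
  · exact eE.symm ≪≫ eL ≪≫ (Scheme.Modules.pullback (inv p')).mapIso eO.symm ≪≫
      (Scheme.Modules.pullbackComp (inv p') g).app O1

end Groth.Agent.Lib.QAffVA.Main
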